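import Mathlib
import Cfsg.Agent.Lib.Helper40.OTS.Defs
import Cfsg.Agent.Lib.Helper1.OTS.InvolGeom
import Cfsg.Agent.Lib.Helper14.Spinor
import Cfsg.Agent.Lib.Helper14.NegOne
import Cfsg.Agent.Lib.Helper14.Forms
import Cfsg.Agent.Lib.Helper99.Quad2
import Cfsg.Agent.Lib.Helper92.OHyp.Qnd

/-!
# OTS (S5972): package [INV2-SUF]

Every involution of `Ω_{2d+1}(q)` fixes a totally singular `m`-space when `m < d` or
`q ≡ 1 (mod 4)`.
-/

set_option autoImplicit false
open scoped MatrixGroups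
open Matrix

namespace Cfsg.Agent.Lib.Helper1.OTS

open Cfsg.Agent.Lib.Helper23.OHyp Cfsg.Agent.Lib.Helper1.OHyp Module

universe u

theorem two_ne_zero_of_odd {F : Type u} [Field F] [Fintype F] (hodd : Odd (Fintype.card F)) :
    (2 : F) ≠ 0 := by
  intro h
  have hchar : ringChar F = 2 := by
    have : CharP F 2 := CharTwo.of_one_ne_zero_of_two_eq_zero one_ne_zero h
    exact ringChar.eq F 2
  have h1 := FiniteField.even_card_of_char_two hchar
  rw [← Nat.not_even_iff_odd] at hodd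
  exact hodd (Nat.even_iff.mpr h1)

/-- an involution of `Ω`: the `(-1)`-eigenspace is of plus type when `-1` is a square -/
theorem neg_plus_of_omega {F : Type u} [Field F] [Fintype F] {ι : Type} [Fintype ι]
    [DecidableEq ι] (Q : QuadraticForm F (ι → F))
    (hQf : Cfsg.Geo.IsNondegenerateQuadraticForm ⇑Q)
    (hQn : (QuadraticMap.polarBilin Q).Nondegenerate) (h2 : (2 : F) ≠ 0)
    (hm1 : IsSquare (-1 : F)) (x : GL ι F) (hx : x ∈ Cfsg.Geo.omegaGL ⇑Q)
    (hXX : (x : Matrix ι ι F) * (x : Matrix ι ι F) = 1) :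
    ∃ U : Submodule F (ι → F), U ≤ negSp (x : Matrix ι ι F) ∧ (∀ u ∈ U, Q u = 0) ∧
      2 * finrank F U = finrank F (negSp (x : Matrix ι ι F)) := by
  classical
  obtain ⟨g, hgΩ, hgx⟩ := hx
  have hX : ∀ v, Q ((x : Matrix ι ι F) *ᵥ v) = Q v := by
    rw [← hgx]
    exact Cfsg.Agent.Lib.Helper14.isom_preserves g
  have hNdm := nd_negSp ⇑Q hQf h2 (x : Matrix ι ι F) hX hXX
  have hperp := perp_fix_neg ⇑Q hQf h2 (x : Matrix ι ι F) hX
  by_cases h0 : finrank F (negSp (x : Matrix ι ι F)) = 0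
  · refine ⟨⊥, bot_le, ?_, by rw [finrank_bot, h0]⟩
    intro u hu
    rw [Submodule.mem_bot] at hu
    rw [hu, map_zero]
  -- the restricted quadratic form
  have hpolm : ∀ a b : ↥(negSp (x : Matrix ι ι F)),
      QuadraticMap.polar (Q.comp (negSp (x : Matrix ι ι F)).subtype) a b =
        QuadraticMap.polar Q (a : ι → F) b := fun a b => rfl
  have hQmn : (Q.comp (negSp (x : Matrix ι ι F)).subtype).polarBilin.Nondegenerate := by
    refine ⟨fun a ha => ?_, fun a ha => ?_⟩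
    · by_contra ha0
      have ha0' : (a : ι → F) ≠ 0 := fun h => ha0 (Subtype.ext h)
      obtain ⟨-, z, hz, hzx⟩ := hNdm a a.2 ha0'
      apply hzx
      have h3 := ha ⟨z, hz⟩
      rw [QuadraticMap.polarBilin_apply_apply, hpolm] at h3
      exact h3
    · by_contra ha0
      have ha0' : (a : ι → F) ≠ 0 := fun h => ha0 (Subtype.ext h)
      obtain ⟨⟨z, hz, hzx⟩, -⟩ := hNdm a a.2 ha0'
      apply hzx
      have h3 := ha ⟨z, hz⟩
      rw [QuadraticMap.polarBilin_apply_apply, hpolm] at h3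
      exact h3
  obtain ⟨k, bb, hb0, hb1, hbo⟩ := Cfsg.Agent.Lib.Helper99.ortho_basis h2
    (Q.comp (negSp (x : Matrix ι ι F)).subtype) hQmn (by omega)
  have hli : LinearIndependent F (fun j => ((bb j : ↥(negSp (x : Matrix ι ι F))) : ι → F)) :=
    bb.linearIndependent.map' (negSp (x : Matrix ι ι F)).subtype (Submodule.ker_subtype _)
  have hspan : Submodule.span F (Set.range
      (fun j => ((bb j : ↥(negSp (x : Matrix ι ι F))) : ι → F))) =
      negSp (x : Matrix ι ι F) := by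
    have h1 : Set.range (fun j => ((bb j : ↥(negSp (x : Matrix ι ι F))) : ι → F)) =
        (negSp (x : Matrix ι ι F)).subtype '' Set.range bb := by
      rw [← Set.range_comp]
      rfl
    rw [h1, Submodule.span_image, bb.span_eq, Submodule.map_top, Submodule.range_subtype]
  have hu1 : ∀ i : Fin k, Q ((bb i.succ : ↥(negSp (x : Matrix ι ι F))) : ι → F) = 1 :=
    fun i => hb1 i
  have hu0 : Q ((bb 0 : ↥(negSp (x : Matrix ι ι F))) : ι → F) ≠ 0 := hb0
  have huo : ∀ i j, i ≠ j → QuadraticMap.polar ⇑Q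
      ((bb i : ↥(negSp (x : Matrix ι ι F))) : ι → F) (bb j : ↥(negSp (x : Matrix ι ι F))) = 0 :=
    fun i j hij => hbo i j hij
  generalize hudef : (fun j => ((bb j : ↥(negSp (x : Matrix ι ι F))) : ι → F)) = u
    at hli hspan
  have hu1' : ∀ i : Fin k, Q (u i.succ) = 1 := by
    intro i
    rw [← hudef]
    exact hu1 i
  have hu0' : Q (u 0) ≠ 0 := by
    rw [← hudef]
    exact hu0
  have huo' : ∀ i j, i ≠ j → QuadraticMap.polar ⇑Q (u i) (u j) = 0 := by
    intro i j hij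
    rw [← hudef]
    exact huo i j hij
  have humem : ∀ i, u i ∈ negSp (x : Matrix ι ι F) := by
    intro i
    rw [← hudef]
    exact (bb i).2
  have huQ : ∀ j, Q (u j) ≠ 0 := by
    intro j
    refine Fin.cases hu0' (fun i => ?_) j
    rw [hu1' i]
    exact one_ne_zero
  have hl : ∀ v ∈ List.ofFn u, Q v ≠ 0 := by
    intro v hv
    rw [List.mem_ofFn] at hv
    obtain ⟨i, rfl⟩ := hv
    exact huQ i
  have hp : (List.ofFn u).Pairwise (fun a b => QuadraticMap.polar ⇑Q a b = 0) := by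
    rw [List.pairwise_ofFn]
    intro i j hij
    exact huo' i j (ne_of_lt hij)
  -- the product of the reflections is `x`
  have hall : ∀ w ∈ Submodule.span F (Set.range u),
      ((List.ofFn u).map (Cfsg.reflectionMatrix ⇑Q)).prod *ᵥ w = -w := by
    intro w hw
    induction hw using Submodule.span_induction with
    | mem y hy =>
      obtain ⟨i, rfl⟩ := hy
      exact Cfsg.Agent.Lib.Helper14.prod_refl_ortho_neg Q (List.ofFn u) hl hp (u i)
        (by rw [List.mem_ofFn]; exact ⟨i, rfl⟩)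
    | zero => simp
    | add y z _ _ hy hz => rw [Matrix.mulVec_add, hy, hz, neg_add]
    | smul a y _ hy => rw [Matrix.mulVec_smul, hy, smul_neg]
  have hR : ∀ v, ((List.ofFn u).map (Cfsg.reflectionMatrix ⇑Q)).prod *ᵥ v =
      (x : Matrix ι ι F) *ᵥ v := by
    intro v
    rw [half_decomp h2 (x : Matrix ι ι F) v, Matrix.mulVec_add, Matrix.mulVec_add]
    congr 1
    · have hv := half_add_mem h2 (x : Matrix ι ι F) hXX v
      rw [(mem_fixSp_iff (x : Matrix ι ι F) _).mp hv]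
      apply Cfsg.Agent.Lib.Helper14.prod_refl_ortho_fix Q (List.ofFn u)
      intro a ha
      rw [List.mem_ofFn] at ha
      obtain ⟨i, rfl⟩ := ha
      rw [QuadraticMap.polar_comm]
      exact hperp _ hv (u i) (humem i)
    · have hv := half_sub_mem h2 (x : Matrix ι ι F) hXX v
      rw [(mem_negSp_iff (x : Matrix ι ι F) _).mp hv]
      apply hall
      rw [hspan]
      exact hv
  have hRX : ((List.ofFn u).map (Cfsg.reflectionMatrix ⇑Q)).prod = (x : Matrix ι ι F) :=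
    Matrix.ext_of_mulVec_single fun i => hR (Pi.single i 1)
  have hg : g = Cfsg.Agent.Lib.Helper14.prodElt Q hQn (List.ofFn u) hl := by
    apply Cfsg.Agent.Lib.Helper14.eq_prodElt Q hQn (List.ofFn u) hl g
    rw [hRX, ← hgx]
    rfl
  rw [hg] at hgΩ
  obtain ⟨hev, hsq⟩ :=
    (Cfsg.Agent.Lib.Helper14.prodElt_mem_commutator_iff h2 Q hQn (List.ofFn u) hl).mp hgΩ
  rw [List.length_ofFn] at hev
  have hprod : ((List.ofFn u).map Q).prod = Q (u 0) := by
    rw [List.map_ofFn, List.prod_ofFn, Fin.prod_univ_succ]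
    have h3 : ∀ i : Fin k, (⇑Q ∘ u) i.succ = 1 := fun i => hu1' i
    simp only [h3, Finset.prod_const_one, mul_one]
    rfl
  rw [hprod] at hsq
  obtain ⟨f, hf⟩ := hev
  have hG : (Matrix.of fun i j => QuadraticMap.polar ⇑Q (u i) (u j)) =
      Matrix.diagonal (fun i => 2 * Q (u i)) := by
    ext i j
    by_cases hij : i = j
    · subst hij
      rw [Matrix.of_apply, Matrix.diagonal_apply_eq, polar_self_eq ⇑Q hQf]
    · rw [Matrix.of_apply, Matrix.diagonal_apply_ne _ hij, huo' i j hij]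
  have hdet : (Matrix.of fun i j => QuadraticMap.polar ⇑Q (u i) (u j)).det =
      2 ^ (k + 1) * Q (u 0) := by
    rw [hG, Matrix.det_diagonal, Finset.prod_mul_distrib, Finset.prod_const, Finset.card_univ,
      Fintype.card_fin, Fin.prod_univ_succ]
    simp only [hu1', Finset.prod_const_one, mul_one]
  have hNd' : Nd ⇑Q (Submodule.span F (Set.range u)) := by
    rw [hspan]
    exact hNdm
  have hplus := (plus_iff_isSquare ⇑Q hQf h2 u hli hNd' f
    (by rw [Fintype.card_fin]; omega)).mpr (by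
      rw [hdet]
      obtain ⟨s, hs⟩ := hm1
      obtain ⟨t, ht⟩ := hsq
      refine ⟨s ^ f * 2 ^ f * t, ?_⟩
      have e : (2 : F) ^ (k + 1) = 2 ^ f * 2 ^ f := by rw [hf, pow_add]
      rw [e, ht, hs]
      ring)
  rw [hspan] at hplus
  obtain ⟨U, hU, hts, hUd⟩ := hplus
  exact ⟨U, hU, hts, hUd⟩

theorem pkgInv2Suf : Cfsg.Agent.Lib.Helper40.OTS.PkgInv2Suf.{u} := by
  intro F _ _ d m hodd hmd hcase x hxΩ hord
  classical
  have h2 : (2 : F) ≠ 0 := two_ne_zero_of_odd hodd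
  have hcoe : ⇑(Cfsg.Agent.Lib.Helper14.oddQF d F) = Cfsg.quadFormOdd d F :=
    Cfsg.Agent.Lib.Helper14.oddQF_coe d F
  rw [← hcoe] at hxΩ ⊢
  have hQf : Cfsg.Geo.IsNondegenerateQuadraticForm ⇑(Cfsg.Agent.Lib.Helper14.oddQF d F) := by
    rw [hcoe]
    exact Cfsg.Agent.Lib.Helper92.OHyp.pkgQnd F h2 d
  have hQn := Cfsg.Agent.Lib.Helper14.oddQF_nondegenerate d F h2
  have hXX : (x : Matrix (Unit ⊕ (Fin d ⊕ Fin d)) (Unit ⊕ (Fin d ⊕ Fin d)) F) *
      (x : Matrix (Unit ⊕ (Fin d ⊕ Fin d)) (Unit ⊕ (Fin d ⊕ Fin d)) F) = 1 := by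
    have h1 : x ^ 2 = 1 := by
      rw [← hord]
      exact pow_orderOf_eq_one x
    have h3 := congrArg
      (fun y : GL (Unit ⊕ (Fin d ⊕ Fin d)) F =>
        (y : Matrix (Unit ⊕ (Fin d ⊕ Fin d)) (Unit ⊕ (Fin d ⊕ Fin d)) F)) h1
    simpa [pow_two] using h3
  have hX : ∀ v, (Cfsg.Agent.Lib.Helper14.oddQF d F)
      ((x : Matrix (Unit ⊕ (Fin d ⊕ Fin d)) (Unit ⊕ (Fin d ⊕ Fin d)) F) *ᵥ v) =
      (Cfsg.Agent.Lib.Helper14.oddQF d F) v := by
    obtain ⟨g, -, hgx⟩ := hxΩ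
    rw [← hgx]
    exact Cfsg.Agent.Lib.Helper14.isom_preserves g
  obtain ⟨Up, hUp, hpts, hpd⟩ := exists_ts_of_nd ⇑(Cfsg.Agent.Lib.Helper14.oddQF d F) hQf h2 _
    (nd_fixSp ⇑(Cfsg.Agent.Lib.Helper14.oddQF d F) hQf h2 _ hX hXX)
  have hsum := Submodule.finrank_add_eq_of_isCompl (isCompl_fix_neg h2
    (x : Matrix (Unit ⊕ (Fin d ⊕ Fin d)) (Unit ⊕ (Fin d ⊕ Fin d)) F) hXX)
  rw [Module.finrank_fintype_fun_eq_card] at hsum
  have hcard : Fintype.card (Unit ⊕ (Fin d ⊕ Fin d)) = 2 * d + 1 := by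
    simp only [Fintype.card_sum, Fintype.card_fin, Fintype.card_unit]
    ring
  rcases hcase with hlt | hq1
  · obtain ⟨Um, hUm, hmts, hmd'⟩ := exists_ts_of_nd ⇑(Cfsg.Agent.Lib.Helper14.oddQF d F) hQf h2
      _ (nd_negSp ⇑(Cfsg.Agent.Lib.Helper14.oddQF d F) hQf h2 _ hX hXX)
    exact exists_inv_ts ⇑(Cfsg.Agent.Lib.Helper14.oddQF d F) hQf h2 _ hX hXX Up Um hUp hUm
      hpts hmts m (by omega)
  · have hm1 : IsSquare (-1 : F) := by
      rw [FiniteField.isSquare_neg_one_iff]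
      omega
    obtain ⟨Um, hUm, hmts, hmd'⟩ := neg_plus_of_omega (Cfsg.Agent.Lib.Helper14.oddQF d F) hQf
      hQn h2 hm1 x hxΩ hXX
    exact exists_inv_ts ⇑(Cfsg.Agent.Lib.Helper14.oddQF d F) hQf h2 _ hX hXX Up Um hUp hUm
      hpts hmts m (by omega)

end Cfsg.Agent.Lib.Helper1.OTS
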